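import Mathlib

/-! # Isomorphisms between endomorphism algebras of projective modules -/

noncomputable section
universe u

set_option autoImplicit false
set_option linter.style.haveILetI false

open TensorProduct Module

namespace Groth.Agent.AzMorita

variable {A : Type u} [CommRing A] {F G : Type u} [AddCommGroup F] [Module A F] [AddCommGroup G] [Module A G]

/-- The module of maps intertwining `φ`. -/
def L (φ : Module.End A F →ₐ[A] Module.End A G) : Submodule A (F →ₗ[A] G) where
  carrier := {l | ∀ e : Module.End A F, l ∘ₗ e = φ e ∘ₗ l}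
  add_mem' hl hm e := by rw [LinearMap.add_comp, LinearMap.comp_add, hl e, hm e]
  zero_mem' e := by rw [LinearMap.zero_comp, LinearMap.comp_zero]
  smul_mem' c l hl e := by rw [LinearMap.smul_comp, LinearMap.comp_smul, hl e]

theorem mem_L (φ : Module.End A F →ₐ[A] Module.End A G) {l : F →ₗ[A] G} :
    l ∈ L φ ↔ ∀ e x, l (e x) = φ e (l x) :=
  ⟨fun h e x => LinearMap.congr_fun (h e) x, fun h e => LinearMap.ext fun x => h e x⟩

/-- Evaluation. -/
def ev (φ : Module.End A F →ₐ[A] Module.End A G) : F ⊗[A] L φ →ₗ[A] G :=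
  TensorProduct.lift ((LinearMap.id (R := A) (M := F →ₗ[A] G)).domRestrict (L φ)).flip

theorem ev_tmul (φ : Module.End A F →ₐ[A] Module.End A G) (x : F) (l : L φ) : ev φ (x ⊗ₜ l) = (l : F →ₗ[A] G) x := rfl

variable (φ : Module.End A F →ₐ[A] Module.End A G)

/-- A rank one element of `L`. -/
def rk1 (ψ : Module.Dual A F) : G →ₗ[A] L φ :=
  LinearMap.codRestrict (L φ)
    { toFun := fun g =>
        { toFun := fun y => φ (ψ.smulRight y) g
          map_add' := fun y z => by
            rw [show ψ.smulRight (y + z) = ψ.smulRight y + ψ.smulRight z from LinearMap.ext fun w => smul_add _ _ _, map_add]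
            rfl
          map_smul' := fun c y => by
            rw [show ψ.smulRight (c • y) = c • ψ.smulRight y from LinearMap.ext fun w => smul_comm _ _ _, map_smul]
            rfl }
      map_add' := fun g h => LinearMap.ext fun y => (φ (ψ.smulRight y)).map_add g h
      map_smul' := fun c g => LinearMap.ext fun y => (φ (ψ.smulRight y)).map_smul c g }
    fun g => (mem_L φ).mpr fun e x => by
      show φ (ψ.smulRight (e x)) g = φ e (φ (ψ.smulRight x) g)
      rw [show ψ.smulRight (e x) = e * ψ.smulRight x from LinearMap.ext fun w => (map_smul e _ _).symm, map_mul]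
      rfl

theorem rk1_apply (ψ : Module.Dual A F) (g : G) (y : F) : (rk1 φ ψ g : F →ₗ[A] G) y = φ (ψ.smulRight y) g := rfl

theorem rk1_of_mem (ψ : Module.Dual A F) (l : L φ) (x : F) : rk1 φ ψ ((l : F →ₗ[A] G) x) = ψ x • l := by
  refine Subtype.ext (LinearMap.ext fun y => ?_)
  rw [rk1_apply, ← (mem_L φ).mp l.2]
  simp

theorem ev_bijective [Module.Finite A F] [Module.Projective A F] : Function.Bijective (ev φ) := by
  obtain ⟨n, p, s, -, -, hps⟩ := Module.Finite.exists_comp_eq_id_of_projective A F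
  let f : Fin n → F := fun j => p (Pi.single j 1)
  let ψ : Fin n → Module.Dual A F := fun j => LinearMap.proj j ∘ₗ s
  have hdual : ∀ x : F, ∑ j, ψ j x • f j = x := fun x => by
    have : p (s x) = x := LinearMap.congr_fun hps x
    conv_rhs => rw [← this, show s x = ∑ j, s x j • (Pi.single j (1 : A) : Fin n → A) from (pi_eq_sum_univ' (s x))]
    rw [map_sum]
    simp [ψ, f]
  let η : G →ₗ[A] F ⊗[A] L φ := ∑ j, (TensorProduct.mk A F (L φ) (f j)) ∘ₗ rk1 φ (ψ j)
  have h1 : ev φ ∘ₗ η = LinearMap.id := by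
    refine LinearMap.ext fun g => ?_
    simp only [η, LinearMap.comp_apply, LinearMap.sum_apply, map_sum, TensorProduct.mk_apply, ev_tmul, rk1_apply]
    rw [← LinearMap.sum_apply, ← map_sum, show (∑ j, (ψ j).smulRight (f j)) = (1 : Module.End A F) from
      LinearMap.ext fun x => by simpa using hdual x, map_one]
    rfl
  have h2 : η ∘ₗ ev φ = LinearMap.id := by
    refine TensorProduct.ext' fun x l => ?_
    simp only [η, LinearMap.comp_apply, LinearMap.sum_apply, TensorProduct.mk_apply, ev_tmul, rk1_of_mem,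
      TensorProduct.tmul_smul, ← TensorProduct.smul_tmul', LinearMap.id_apply]
    simp only [TensorProduct.smul_tmul', ← TensorProduct.sum_tmul, hdual]
  exact ⟨fun a b h => by simpa [← LinearMap.comp_apply, h2] using congrArg η h,
    fun g => ⟨η g, LinearMap.congr_fun h1 g⟩⟩

theorem exists_trace_one [Module.Finite A F] [Module.Projective A F] [Module.FaithfullyFlat A F] :
    ∃ (n : ℕ) (ψ : Fin n → Module.Dual A F) (x : Fin n → F), ∑ j, ψ j (x j) = 1 := by
  obtain ⟨n, p, s, -, -, hps⟩ := Module.Finite.exists_comp_eq_id_of_projective A F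
  let I : Ideal A := ⨆ j : Fin n, LinearMap.range (LinearMap.proj j ∘ₗ s)
  have hI : I = ⊤ := by
    by_contra h
    obtain ⟨m, hm, hIm⟩ := Ideal.exists_le_maximal I h
    refine Module.FaithfullyFlat.submodule_ne_top (M := F) hm (eq_top_iff.mpr fun x _ => ?_)
    rw [show x = p (s x) from (LinearMap.congr_fun hps x).symm, pi_eq_sum_univ' (s x), map_sum]
    refine Submodule.sum_mem _ fun j _ => ?_
    rw [map_smul]
    exact Submodule.smul_mem_smul (hIm (Submodule.mem_iSup_of_mem j ⟨x, rfl⟩)) trivial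
  have h1 : (1 : A) ∈ I := hI ▸ trivial
  obtain ⟨μ, hμ⟩ := (Submodule.mem_iSup_iff_exists_finsupp _ 1).mp h1
  choose x hx using fun j => hμ.1 j
  refine ⟨n, fun j => LinearMap.proj j ∘ₗ s, x, ?_⟩
  rw [← hμ.2, Finsupp.sum_fintype _ _ (fun _ => rfl)]
  exact Finset.sum_congr rfl fun j _ => hx j

theorem invertible_L [Module.Finite A F] [Module.Projective A F] [Module.FaithfullyFlat A F]
    [Module.Finite A G] [Module.Projective A G] (e : Module.End A F ≃ₐ[A] Module.End A G) :
    Module.Invertible A (L e.toAlgHom) := by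
  obtain ⟨n, ψ, x, hψ⟩ := exists_trace_one (A := A) (F := F)
  let c : Module.End A F →ₗ[A] A := ∑ j, ψ j ∘ₗ (LinearMap.applyₗ (x j))
  have hc : ∀ (l : L e.toAlgHom) (l' : L e.symm.toAlgHom) (y : F),
      (l' : G →ₗ[A] F) ((l : F →ₗ[A] G) y) = c ((l' : G →ₗ[A] F) ∘ₗ (l : F →ₗ[A] G)) • y := by
    intro l l' y
    set h := (l' : G →ₗ[A] F) ∘ₗ (l : F →ₗ[A] G)
    have hcomm : ∀ (f : Module.End A F) z, h (f z) = f (h z) := fun f z => by
      show (l' : G →ₗ[A] F) ((l : F →ₗ[A] G) (f z)) = f ((l' : G →ₗ[A] F) ((l : F →ₗ[A] G) z))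
      rw [(mem_L _).mp l.2, (mem_L _).mp l'.2]
      show e.symm (e f) _ = _
      rw [e.symm_apply_apply]
    have : ∀ j, ψ j (x j) • h y = ψ j (h (x j)) • y := fun j => by
      have := hcomm ((ψ j).smulRight y) (x j)
      simp only [LinearMap.smulRight_apply, map_smul] at this
      exact this
    show h y = c h • y
    rw [show c h = ∑ j, ψ j (h (x j)) by simp [c, LinearMap.applyₗ], Finset.sum_smul, ← Finset.sum_congr rfl (fun j _ => this j),
      ← Finset.sum_smul, hψ, one_smul]
  let comp : L e.toAlgHom →ₗ[A] L e.symm.toAlgHom →ₗ[A] Module.End A F :=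
    ((LinearMap.llcomp A F G F).flip.compl₂ (L e.symm.toAlgHom).subtype) ∘ₗ (L e.toAlgHom).subtype
  let μ : L e.toAlgHom ⊗[A] L e.symm.toAlgHom →ₗ[A] A := TensorProduct.lift (comp.compr₂ c)
  let E₁ : F ⊗[A] L e.toAlgHom ≃ₗ[A] G := LinearEquiv.ofBijective (ev e.toAlgHom) (ev_bijective e.toAlgHom)
  let E₂ : G ⊗[A] L e.symm.toAlgHom ≃ₗ[A] F := LinearEquiv.ofBijective (ev e.symm.toAlgHom) (ev_bijective e.symm.toAlgHom)
  have hbij : Function.Bijective (μ.lTensor F) := by
    let T := ((TensorProduct.assoc A F (L e.toAlgHom) (L e.symm.toAlgHom)).symm ≪≫ₗ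
      TensorProduct.congr E₁ (LinearEquiv.refl A _) ≪≫ₗ E₂ ≪≫ₗ (TensorProduct.rid A F).symm)
    rw [show μ.lTensor F = T.toLinearMap from TensorProduct.ext (LinearMap.ext fun y => TensorProduct.ext' fun l l' => by
      show y ⊗ₜ[A] c ((l' : G →ₗ[A] F) ∘ₗ (l : F →ₗ[A] G)) = ((l' : G →ₗ[A] F) ((l : F →ₗ[A] G) y)) ⊗ₜ[A] (1 : A)
      rw [hc l l' y, TensorProduct.smul_tmul, smul_eq_mul, mul_one])]
    exact T.bijective
  replace hbij : Function.Bijective μ := by
    refine (Module.FaithfullyFlat.lTensor_bijective_iff_bijective (R := A) (M := F) (N := L e.toAlgHom ⊗[A] L e.symm.toAlgHom) (N' := A) μ).mp ?_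
    exact hbij
  exact Module.Invertible.left (LinearEquiv.ofBijective μ hbij)

end Groth.Agent.AzMorita
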